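import Groth.Agent.H81.ProjBundle.Smooth
import Groth.Agent.H81.VeryAmple.FTCrit
import Groth.Agent.Lib.HProj.Proper
import Groth.Agent.Lib.SymAlg.PE.Main
import Groth.Agent.Lib.QCoh.Closure
import Groth.Agent.Lib.Modules.AffineSections
import Groth.Agent.S1109
import Groth.Agent.S4991

/-!
# Projective morphisms over regular bases embed into smooth projective bundles
-/

set_option autoImplicit false
set_option linter.style.haveILetI false
universe u

open CategoryTheory CategoryTheory.Limits AlgebraicGeometry TopologicalSpace Opposite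

namespace Groth.Agent.H81.ProjBundle.Embed

noncomputable section

open Groth.Agent.Lib Groth.Agent.Lib.SymAlg.PE

variable {Z S : Scheme.{u}} {q : Z ⟶ S} {L : Z.Modules}

theorem crit_comp_of_surjective {E F : S.Modules} (π : E ⟶ F) (v : F ⟶ (Scheme.Modules.pushforward q).obj L)
    (hπ : ∀ U : S.Opens, IsAffineOpen U → Function.Surjective (π.app U)) (h : Crit v) : Crit (π ≫ v) := fun x => by
  obtain ⟨U, hU, e, hx, hI⟩ := h x
  obtain ⟨e₁, rfl⟩ := hπ U hU e
  refine ⟨U, hU, e₁, hx, hI.mono (Subring.closure_mono ?_)⟩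
  rintro _ ⟨e', rfl⟩
  obtain ⟨e'', rfl⟩ := hπ U hU e'
  exact ⟨e'', rfl⟩

theorem isFTDeg_one {V : S.Modules} (hV : FlatMod.IsFinLocFree V) (hVq : Coh.IsQCoh V) {𝒯 : RelProj.QCGrAlg S}
    {j : V ⟶ 𝒯.toModule} (h : RelProj.IsGrSymAlg V 𝒯 j) : 𝒯.IsFTDeg 1 := by
  classical
  intro U hU
  haveI : V.IsQuasicoherent := hVq
  haveI := (Modules.AffineSections.finite_projective_sections hV hU).1
  obtain ⟨G, hG⟩ := Module.Finite.fg_top (R := Γ(S, U)) (M := Γ(V, U))
  refine ⟨G.image fun e => (j.app U e : 𝒯.presheaf.obj (op U)), ?_, fun x hx => ?_⟩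
  · intro t ht
    obtain ⟨e, -, rfl⟩ := Finset.mem_image.1 ht
    exact h.2 U hU e
  · obtain ⟨e, rfl⟩ := SymAlg.Gen.deg_one h hVq hU hx
    letI := SymAlg.Unique.algInst 𝒯.toQCAlg U
    have he : (j.app U e : 𝒯.presheaf.obj (op U)) ∈
        Submodule.span Γ(S, U) (↑(G.image fun e => (j.app U e : 𝒯.presheaf.obj (op U))) : Set _) := by
      rw [Finset.coe_image]
      have h1 := Submodule.mem_map_of_mem (f := SymAlg.Unique.jLin 𝒯.toQCAlg j U) (hG.symm ▸ Submodule.mem_top (x := e))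
      rwa [Submodule.map_span] at h1
    obtain ⟨c, -, hc⟩ := Submodule.mem_span_finset.1 he
    exact ⟨c, hc.symm⟩

theorem crit_id_of_isProjective {f : Z ⟶ S} (hf : RelProj.IsProjective f) :
    ∃ (L : Z.Modules) (E : S.Modules) (_ : Coh.IsQCoh E) (v : E ⟶ (Scheme.Modules.pushforward f).obj L),
      PicF.IsInvertible L ∧ Crit v := by
  obtain ⟨𝒮, P, p, chart, e, hgen, hft, hP, hep⟩ := hf
  let B : Tw S := Tw.ofAlg 𝒮 hgen
  obtain ⟨O1, lam, hO⟩ := H81.RelProj.RelTwist.exists_isRelTwist hP 1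
  let B' : Tw S := ⟨𝒮, hgen, P, p, chart, hP, O1, lam, hO⟩
  obtain ⟨E, hE, v, hg, hI⟩ := exists_data_of_tw (q := f) B' e.hom hep (Iso.refl _)
  exact ⟨_, E, hE, v, PicLoc.isInvertible_pullback e.hom B'.isInvertible, crit_of_data hg hI⟩

theorem exists_embed [IsNoetherian S] [S.IsSeparated] (hS : ∀ s : S, IsRegularLocalRing (S.presheaf.stalk s))
    {f : Z ⟶ S} (hf : RelProj.IsProjective f) :
    ∃ (P : Scheme.{u}) (p : P ⟶ S) (i : Z ⟶ P), IsClosedImmersion i ∧ AlgebraicGeometry.Smooth p ∧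
      RelProj.IsProjective p ∧ IsLocallyNoetherian P ∧
      (∀ x : P, IsRegularLocalRing (P.presheaf.stalk x)) ∧ i ≫ p = f := by
  obtain ⟨L, E₀, hE₀, v₀, hL, hC₀⟩ := crit_id_of_isProjective hf
  haveI := HProj.Proper.isProper_of_isProjective hf
  obtain ⟨E, hE, hFT, ι, -, hC⟩ := H81.VeryAmple.FTCrit.exists_ft_crit hL hE₀ v₀ hC₀
  obtain ⟨V, π, hV, hπ⟩ := Groth.Agent.S1109.result S hS (fun U W hU hW => hU.inf hW) E hE hFT
  haveI : E.IsQuasicoherent := hE
  haveI : V.IsQuasicoherent := Modules.AffineSections.isQCoh_of_isFinLocFree hV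
  have hC' := crit_comp_of_surjective π (ι ≫ v₀) (fun U hU => QCoh.Closure.sections_surjective_of_epi π hU) hC
  have hVq : Coh.IsQCoh V := ‹V.IsQuasicoherent›
  have hj : RelProj.IsGrSymAlg V (SymAlg.Exists.grAlg V) (SymAlg.Exists.jmap V) := SymAlg.Exists.isGrSymAlg V
  let B : Tw S := Tw.ofAlg (SymAlg.Exists.grAlg V) (SymAlg.Gen.isGenDegOne hj hVq)
  obtain ⟨r, hr⟩ := exists_isMapFor (B := B) (hE := hVq) hj (π ≫ ι ≫ v₀) hC'.generates
  obtain ⟨τ, hτ⟩ := exists_tau (G := Tw.Gens.ofSym B hVq hj) hC'.generates hr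
  have heq : ∀ (U : S.Opens) (hU : IsAffineOpen U) (e : Γ((Tw.Gens.ofSym B hVq hj).E, U)),
      gloc (ev (π ≫ ι ≫ v₀) U e) = r ⁻¹ᵁ B.D hU ((Tw.Gens.ofSym B hVq hj).g U e) := fun U hU e => by
    have h1 : ev (π ≫ ι ≫ v₀) U e = ev (vOf (Tw.Gens.ofSym B hVq hj) r hr.hq τ) U e :=
      (hτ U hU e).trans (ev_vOf (Tw.Gens.ofSym B hVq hj) r hr.hq τ hU e).symm
    exact (congrArg gloc h1).trans (gloc_vOf _ r hr.hq τ hU e)
  haveI := isImmersion_of_crit (Tw.Gens.ofSym B hVq hj) hr heq hC'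
  haveI : AlgebraicGeometry.Smooth B.p := Smooth.smooth_proj hj hV B.hP
  haveI : IsLocallyNoetherian B.P := LocallyOfFiniteType.isLocallyNoetherian B.p
  haveI := RelProjBasics.Basic.isSeparated B.hP
  haveI : IsProper (r ≫ B.p) := hr.hq.symm ▸ ‹IsProper f›
  haveI : IsProper r := IsProper.of_comp r B.p
  refine ⟨B.P, B.p, r, IsClosedImmersion.of_isPreimmersion r r.isClosedMap.isClosed_range, inferInstance,
    ⟨B.alg, B.P, B.p, B.chart, Iso.refl _, B.gen, isFTDeg_one hV hVq hj, B.hP, Category.id_comp _⟩,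
    inferInstance, fun x => ?_, hr.hq⟩
  exact (Groth.Agent.S4991.result B.p x ⟨⊤, trivial, inferInstance⟩).mpr (hS _)

end

end Groth.Agent.H81.ProjBundle.Embed
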