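import Groth.Agent.Lib.SymAlg.Unique
import Groth.Agent.Lib.RelProjBasics.Basic
import Groth.Agent.Lib.ProjSpace.Basic
import Groth.Agent.Lib.GrassBdl.Emb
import Mathlib.LinearAlgebra.SymmetricAlgebra.Basis
import Mathlib.RingTheory.MvPolynomial.Homogeneous
import Mathlib.AlgebraicGeometry.ProjectiveSpectrum.Functor

/-!
# The projective bundle of a finite locally free module is smooth
-/

set_option autoImplicit false
set_option linter.style.haveILetI false
universe u

open CategoryTheory CategoryTheory.Limits AlgebraicGeometry TopologicalSpace Opposite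
open scoped HomogeneousIdeal

namespace Groth.Agent.H81.ProjBundle.Smooth

noncomputable section

open Groth.Agent.Lib HomogeneousLocalization

section Graded

variable {A B σ τ : Type u} [CommRing A] [CommRing B] [SetLike σ A] [AddSubgroupClass σ A] [SetLike τ B]
  [AddSubgroupClass τ B] {𝒜 : ℕ → σ} {ℬ : ℕ → τ} [GradedRing 𝒜] [GradedRing ℬ]

theorem irrelevant_le_of_surjective (f : 𝒜 →+*ᵍ ℬ) (h : ∀ (i : ℕ) (b : B), b ∈ ℬ i → ∃ a ∈ 𝒜 i, f a = b) :
    ℬ₊ ≤ 𝒜₊.map f := by
  rw [HomogeneousIdeal.irrelevant_le]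
  intro i hi b hb
  obtain ⟨a, ha, rfl⟩ := h i b hb
  exact Ideal.mem_map_of_mem _ (HomogeneousIdeal.mem_irrelevant_of_mem _ hi ha)

theorem map_congr {f f' : 𝒜 →+*ᵍ ℬ} (e : f = f') (hf hf') : Proj.map f hf = Proj.map f' hf' := by
  subst e; rfl

theorem exists_projIso (f : 𝒜 →+*ᵍ ℬ) (g : ℬ →+*ᵍ 𝒜) (hgf : ∀ a, g (f a) = a) (hfg : ∀ b, f (g b) = b) :
    ∃ hf, IsIso (Proj.map f hf) := by
  have hf := irrelevant_le_of_surjective f fun i b hb => ⟨g b, GradedRingHom.map_mem g hb, hfg b⟩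
  have hg := irrelevant_le_of_surjective g fun i a ha => ⟨f a, GradedRingHom.map_mem f ha, hgf a⟩
  refine ⟨hf, ⟨Proj.map g hg, ?_, ?_⟩⟩
  · rw [← Proj.map_comp]
    exact (map_congr (show f.comp g = .id _ from GradedRingHom.ext fun b => hfg b) _ (by simp)).trans Proj.map_id
  · rw [← Proj.map_comp]
    exact (map_congr (show g.comp f = .id _ from GradedRingHom.ext fun a => hgf a) _ (by simp)).trans Proj.map_id

end Graded

theorem map_toSpecZero {A B σ τ : Type u} [CommRing A] [CommRing B] [SetLike σ A] [AddSubgroupClass σ A] [SetLike τ B]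
    [AddSubgroupClass τ B] {𝒜 : ℕ → σ} {ℬ : ℕ → τ} [GradedRing 𝒜] [GradedRing ℬ]
    (f : 𝒜 →+*ᵍ ℬ) (hf) {R : CommRingCat.{u}} (a : R ⟶ CommRingCat.of (𝒜 0)) (b : R ⟶ CommRingCat.of (ℬ 0))
    (h : ∀ r, f (a r : A) = (b r : B)) :
    Proj.map f hf ≫ Proj.toSpecZero 𝒜 ≫ Spec.map a = Proj.toSpecZero ℬ ≫ Spec.map b := by
  refine (Proj.mapAffineOpenCover f hf).openCover.hom_ext _ _ fun s => ?_
  simp only [Scheme.AffineOpenCover.openCover_f, Proj.mapAffineOpenCover_f]
  obtain ⟨⟨m, hm⟩, t, ht⟩ := s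
  erw [Proj.awayι_comp_map_assoc f hf hm t ht]
  rw [Proj.awayι_toSpecZero_assoc]
  erw [Proj.awayι_toSpecZero_assoc]
  rw [← Spec.map_comp, ← Spec.map_comp, ← Spec.map_comp]
  refine congrArg Spec.map (CommRingCat.hom_ext (RingHom.ext fun r => HomogeneousLocalization.val_injective _ ?_))
  simp only [CommRingCat.hom_comp, RingHom.comp_apply, CommRingCat.hom_ofHom]
  simp [Away.map, HomogeneousLocalization.map, fromZeroRingHom, HomogeneousLocalization.val_mk, h]

variable {Y : Scheme.{u}} {E : Y.Modules} [E.IsQuasicoherent] {𝒯 : RelProj.QCGrAlg Y} {j : E ⟶ 𝒯.toModule}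
  (h : RelProj.IsGrSymAlg E 𝒯 j)

include h in
/-- Over an affine open with a basis of the sections, the chart is smooth. -/
theorem smooth_chartStr {W : Y.Opens} (hW : IsAffineOpen W) {n : ℕ} (b : Module.Basis (Fin n) Γ(Y, W) Γ(E, W)) :
    AlgebraicGeometry.Smooth (RelProjBasics.Basic.chartStr 𝒯 W hW) := by
  rcases n with _ | m
  · haveI : IsEmpty (Proj (𝒯.deg W hW) : Scheme.{u}) := ⟨fun y => by
      obtain ⟨e, he⟩ := SymAlg.Gen.exists_not_mem h ‹E.IsQuasicoherent› hW y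
      refine he ?_
      rw [show e = 0 from b.repr.injective (Subsingleton.elim _ _)]
      exact (congrArg (· ∈ (y : ProjectiveSpectrum (𝒯.deg W hW)).asHomogeneousIdeal) (map_zero (j.app W).hom)).mpr
        (zero_mem _)⟩
    infer_instance
  letI := SymAlg.Unique.algInst 𝒯.toQCAlg W
  have hsym := SymAlg.Unique.isSymmetricAlgebra h.1 hW
  let θ : 𝒯.presheaf.obj (op W) ≃ₐ[Γ(Y, W)] MvPolynomial (Fin (m + 1)) Γ(Y, W) :=
    hsym.equiv.symm.trans (SymmetricAlgebra.equivMvPolynomial b)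
  have hj : ∀ e, θ (SymAlg.Unique.jLin 𝒯.toQCAlg j W e) = b.constr Γ(Y, W) MvPolynomial.X e := fun e => by
    change SymmetricAlgebra.equivMvPolynomial b (hsym.equiv.symm _) = _
    rw [hsym.equiv_symm_apply]
    exact SymmetricAlgebra.lift_ι_apply _ e
  have hrange : (LinearMap.range (SymAlg.Unique.jLin 𝒯.toQCAlg j W)).map θ.toLinearMap =
      MvPolynomial.homogeneousSubmodule (Fin (m + 1)) Γ(Y, W) 1 := by
    rw [← LinearMap.range_comp, show θ.toLinearMap ∘ₗ SymAlg.Unique.jLin 𝒯.toQCAlg j W =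
      b.constr Γ(Y, W) MvPolynomial.X from LinearMap.ext hj, Module.Basis.constr_range,
      MvPolynomial.homogeneousSubmodule_one_eq_span_X]
  have hmap : ∀ d, (LinearMap.range (SymAlg.Unique.jLin 𝒯.toQCAlg j W) ^ d).map θ.toLinearMap =
      MvPolynomial.homogeneousSubmodule (Fin (m + 1)) Γ(Y, W) d := fun d => by
    refine ((Submodule.map_pow _ θ.toAlgHom d).trans (congrArg (· ^ d) hrange)).trans ?_
    exact MvPolynomial.homogeneousSubmodule_one_pow ..
  let f : CohB1.polyGrading m Γ(Y, W) →+*ᵍ 𝒯.deg W hW :=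
    { θ.symm.toRingEquiv.toRingHom with
      map_mem := fun {d x} hx => by
        rw [CohB1.polyGrading, ← hmap d] at hx
        obtain ⟨a, ha, rfl⟩ := hx
        exact (congrArg (· ∈ 𝒯.deg W hW d) (θ.symm_apply_apply a)).mpr ((SymAlg.Unique.deg_eq h hW d a).2 ha) }
  let g : 𝒯.deg W hW →+*ᵍ CohB1.polyGrading m Γ(Y, W) :=
    { θ.toRingEquiv.toRingHom with
      map_mem := fun {d x} hx => by
        rw [CohB1.polyGrading, ← hmap d]
        exact ⟨x, (SymAlg.Unique.deg_eq h hW d x).1 hx, rfl⟩ }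
  obtain ⟨hf, _⟩ := exists_projIso f g (fun a => θ.apply_symm_apply a) fun a => θ.symm_apply_apply a
  have e : Proj.map f hf ≫ CohB1.ProjSpace.toSpec m Γ(Y, W) = RelProjBasics.Basic.chartStr 𝒯 W hW :=
    map_toSpecZero f hf _ (𝒯.strZero W hW) fun r => θ.symm.commutes r
  rw [← e]
  exact (MorphismProperty.cancel_left_of_respectsIso @AlgebraicGeometry.Smooth (Proj.map f hf) _).mpr
    (ProjSpace.Basic.smooth_toSpec m _)

omit [E.IsQuasicoherent] in
theorem exists_basis (hE : FlatMod.IsFinLocFree E) (p : Y) : ∃ (n : ℕ) (W : Y.Opens), IsAffineOpen W ∧ p ∈ W ∧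
    Nonempty (Module.Basis (Fin n) Γ(Y, W) Γ(E, W)) := by
  obtain ⟨U₀, n, hp, ⟨i⟩⟩ := hE p
  obtain ⟨e, he⟩ := Pinch.StalkFrame.exists_isFrame_of_iso i
  obtain ⟨W, hW, hpW, hle⟩ := exists_isAffineOpen_mem_and_subset (X := Y) (x := p) hp
  let f : Fin n → Γ(E, W) := fun k => TensorMod.Dual.rs E hle (e k)
  have hf : Pinch.StalkFrame.IsFrame E W f := fun z hz => (GrassGen.Frames.at_res e hle hz).2 (he z (hle hz))
  have hlin : (fun c : Fin n → Γ(Y, W) => Pinch.StalkFrame.comb f le_rfl c) =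
      Fintype.linearCombination Γ(Y, W) f := funext fun c => by
    simp [Pinch.StalkFrame.comb, TensorMod.Dual.rs_self, Fintype.linearCombination_apply]
  have hbij : Function.Bijective (Fintype.linearCombination Γ(Y, W) f) := by
    rw [← hlin]
    exact ⟨Pinch.StalkFrame.comb_injective hf le_rfl, Pinch.StalkFrame.comb_surjective hf le_rfl⟩
  exact ⟨n, W, hW, hpW, ⟨Module.Basis.ofEquivFun (LinearEquiv.ofBijective _ hbij).symm⟩⟩

include h in
/-- The projective bundle is smooth over the base. -/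
theorem smooth_proj (hE : FlatMod.IsFinLocFree E) {P : Scheme.{u}} {p : P ⟶ Y}
    {chart : ∀ (U : Y.Opens) (hU : IsAffineOpen U), ((p ⁻¹ᵁ U : P.Opens) : Scheme.{u}) ≅ Proj (𝒯.deg U hU)}
    (hP : RelProj.IsRelProj 𝒯 p chart) : AlgebraicGeometry.Smooth p := by
  choose n W hW hmem hb using exists_basis hE
  refine IsZariskiLocalAtTarget.of_iSup_eq_top (P := @AlgebraicGeometry.Smooth) W
    (top_le_iff.1 fun y _ => Opens.mem_iSup.2 ⟨y, hmem y⟩) fun y => ?_
  rw [RelProjBasics.Basic.morphismRestrict_eq hP (W y) (hW y)]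
  haveI := smooth_chartStr h (hW y) (hb y).some
  infer_instance

end

end Groth.Agent.H81.ProjBundle.Smooth
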